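import Groth.Agent.L02.FibFlat.Pointwise
import Groth.Agent.L02.ConsP.Main
import Groth.Agent.L28.Fib.Univ
import Groth.Agent.L17.Approx.RestrictFP
import Groth.Agent.L15.Ref.FreeLocus

/-!
The locus of fibrewise flatness is locally constructible (EGA IV 11.2.8).
-/

set_option autoImplicit false
set_option linter.style.haveILetI false
set_option backward.isDefEq.respectTransparency.types false
set_option backward.isDefEq.respectTransparency false

universe u

open CategoryTheory CategoryTheory.Limits AlgebraicGeometry TopologicalSpace Topology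
open scoped TensorProduct
open Groth.L20.FibreModule

namespace Groth.L02.FibFlat

variable {X Y S : Scheme.{u}}

/-- The locus of fibrewise flatness. -/
def Locus (f : X ⟶ Y) (g : Y ⟶ S) (F : X.Modules) : Set X := {x | QF f g F x}

theorem QF_congr (f : X ⟶ Y) (g : Y ⟶ S) {F G : X.Modules} (e : F ≅ G) (x : X) : QF f g F x ↔ QF f g G x := by
  rw [QF_iff_asFiber, QF_iff_asFiber]
  exact ⟨fun h => isFlatOverAt_congr _ ((Scheme.Modules.pullback _).mapIso e) h,
    fun h => isFlatOverAt_congr _ ((Scheme.Modules.pullback _).mapIso e.symm) h⟩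

theorem flat_quot {A N : Type u} [CommRing A] [AddCommGroup N] [Module A N] (h : Module.Flat A N) (I : Ideal A) :
    Module.Flat (A ⧸ I) (N ⧸ (I • ⊤ : Submodule A N)) := by
  haveI := h
  exact Module.Flat.of_linearEquiv
    ((TensorProduct.quotTensorEquivQuotSMul N I).symm.extendScalarsOfSurjective
      (S := A ⧸ I) Ideal.Quotient.mk_surjective)

/-- Over a flat point the fibrewise flatness is flatness over the middle scheme. -/
theorem QF_iff_of_flat (f : X ⟶ Y) (g : Y ⟶ S) [LocallyOfFinitePresentation (f ≫ g)] [LocallyOfFiniteType g]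
    (F : X.Modules) [Coh.IsQCoh F] (hfp : CohB1.IsFP F) (x : X) (h : FlatMod.IsFlatOverAt (f ≫ g) F x) :
    QF f g F x ↔ FlatMod.IsFlatOverAt f F x := by
  refine ⟨isFlatOverAt_of_fibre f g F inferInstance hfp x h, fun h₂ => ?_⟩
  letI := FlatMod.moduleStalkOver f F x
  haveI : Module.Flat (Y.presheaf.stalk (f x)) (F.presheaf.stalk x) := h₂
  exact flat_quot h₂ _

theorem isFlatOverAt_of_field {T : Scheme.{u}} (f : X ⟶ T) (F : X.Modules) (x : X)
    (h : IsField (T.presheaf.stalk (f x))) : FlatMod.IsFlatOverAt f F x := by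
  letI := FlatMod.moduleStalkOver f F x
  letI := h.toField
  exact Module.Flat.of_free

/-- On an integral base, near the generic point, the locus is open. -/
theorem exists_open_generic {T : Scheme.{u}} [IsIntegral T] [IsNoetherian T] (f : X ⟶ Y) (g : Y ⟶ T)
    [LocallyOfFiniteType g] [QuasiCompact g] [LocallyOfFiniteType (f ≫ g)] [QuasiCompact (f ≫ g)]
    (F : X.Modules) (hF : Coh.IsCoh F) :
    ∃ W : T.Opens, genericPoint T ∈ W ∧ IsOpen (Locus f g F ∩ (f ≫ g) ⁻¹' W) := by
  haveI : Coh.IsQCoh F := hF.1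
  haveI : IsLocallyNoetherian Y := LocallyOfFiniteType.isLocallyNoetherian g
  haveI : IsLocallyNoetherian X := LocallyOfFiniteType.isLocallyNoetherian (f ≫ g)
  haveI : CompactSpace X := QuasiCompact.compactSpace_of_compactSpace (f ≫ g)
  haveI : IsNoetherian X := {}
  haveI : LocallyOfFiniteType f := locallyOfFiniteType_of_comp f g
  haveI : LocallyOfFinitePresentation f := inferInstance
  haveI : LocallyOfFinitePresentation (f ≫ g) := inferInstance
  have hfp : CohB1.IsFP F := Groth.L15.Ref.isFP_of_isCoh hF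
  have hO := isOpen_isFlatOverAt (f ≫ g) F inferInstance hfp
  have hZ : IsLocallyConstructible ((f ≫ g) '' {x | FlatMod.IsFlatOverAt (f ≫ g) F x}ᶜ) :=
    (f ≫ g).isLocallyConstructible_image (Groth.L28.Fib.isLocallyConstructible_compl
      (Groth.L06.Constr.isConstructible_of_isOpen hO).isLocallyConstructible)
  have hgen : genericPoint T ∈ interior ((f ≫ g) '' {x | FlatMod.IsFlatOverAt (f ≫ g) F x}ᶜ)ᶜ := by
    refine L02.ConsP.mem_interior_of_ind (L02.ConsP.isIndConstructible_of_isLocallyConstructible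
      (Groth.L28.Fib.isLocallyConstructible_compl hZ)) ?_
    rintro ⟨x, hx, he⟩
    refine hx (isFlatOverAt_of_field (f ≫ g) F x ?_)
    rw [he]
    exact (inferInstance : Field T.functionField).toIsField
  refine ⟨⟨_, isOpen_interior⟩, hgen, ?_⟩
  have heq : Locus f g F ∩ (f ≫ g) ⁻¹' interior ((f ≫ g) '' {x | FlatMod.IsFlatOverAt (f ≫ g) F x}ᶜ)ᶜ =
      {x | FlatMod.IsFlatOverAt f F x} ∩ (f ≫ g) ⁻¹' interior ((f ≫ g) '' {x | FlatMod.IsFlatOverAt (f ≫ g) F x}ᶜ)ᶜ := by
    refine Set.ext fun x => and_congr_left fun hx => QF_iff_of_flat f g F hfp x ?_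
    by_contra hne
    exact interior_subset hx ⟨x, hne, rfl⟩
  show IsOpen (Locus f g F ∩ (f ≫ g) ⁻¹' interior ((f ≫ g) '' {x | FlatMod.IsFlatOverAt (f ≫ g) F x}ᶜ)ᶜ)
  rw [heq]
  exact (isOpen_isFlatOverAt f F inferInstance hfp).inter (isOpen_interior.preimage (f ≫ g).continuous)

/-- The locus over a noetherian base is constructible. -/
theorem isConstructible_noetherian [IsNoetherian S] (f : X ⟶ Y) (g : Y ⟶ S)
    [LocallyOfFiniteType g] [QuasiCompact g] [LocallyOfFiniteType (f ≫ g)] [QuasiCompact (f ≫ g)]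
    (F : X.Modules) (hF : Coh.IsCoh F) : IsConstructible (Locus f g F) := by
  haveI : Coh.IsQCoh F := hF.1
  haveI : IsLocallyNoetherian X := LocallyOfFiniteType.isLocallyNoetherian (f ≫ g)
  haveI : CompactSpace X := QuasiCompact.compactSpace_of_compactSpace (f ≫ g)
  haveI : IsNoetherian X := {}
  refine Groth.L06.Constr.isConstructible_of_forall_irreducible fun C hC hCi => ?_
  obtain ⟨ξ, hξ⟩ := QuasiSober.sober hCi hC
  obtain ⟨T, i, _, _, _, hr⟩ := L02.ConsP.exists_integral_closed (S := S) isClosed_closure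
    (isIrreducible_singleton (x := (f ≫ g) ξ)).closure
  obtain ⟨hirrT, hgen⟩ := Groth.L07.DimToolkit.irreducible_of_range_eq i _ hr
  let qY := pullback.fst g i
  let gT := pullback.snd g i
  let qX := pullback.fst f qY
  let fT := pullback.snd f qY
  have sqY : IsPullback qY gT g i := IsPullback.of_hasPullback g i
  have sqf : IsPullback qX fT f qY := IsPullback.of_hasPullback f qY
  haveI : LocallyOfFiniteType gT := MorphismProperty.of_isPullback sqY inferInstance
  haveI : QuasiCompact gT := MorphismProperty.of_isPullback sqY inferInstance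
  haveI : LocallyOfFiniteType (fT ≫ gT) := MorphismProperty.of_isPullback (sqf.paste_vert sqY) inferInstance
  haveI : QuasiCompact (fT ≫ gT) := MorphismProperty.of_isPullback (sqf.paste_vert sqY) inferInstance
  haveI : IsClosedImmersion qY := MorphismProperty.pullback_fst _ _ inferInstance
  haveI : IsClosedImmersion qX := MorphismProperty.pullback_fst _ _ inferInstance
  obtain ⟨W, hWη, hWopen⟩ := exists_open_generic fT gT ((Scheme.Modules.pullback qX).obj F)
    (Groth.L16.AffineBC.isCoh_pullback qX (G := F) hF)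
  have hbc : ∀ x : ↥(pullback f qY), QF fT gT ((Scheme.Modules.pullback qX).obj F) x ↔ QF f g F (qX x) :=
    fun x => QF_baseChange f g F sqY sqf x
  have hrange : ∀ c ∈ C, c ∈ Set.range qX := by
    intro c hc
    have hξc : ξ ⤳ c := specializes_iff_mem_closure.2 (hξ.def.symm ▸ hc)
    obtain ⟨t, ht⟩ := hr.ge (specializes_iff_mem_closure.1 (hξc.map (f ≫ g).continuous))
    obtain ⟨y, hy, -⟩ := Scheme.exists_preimage_of_isPullback (sqf.paste_vert sqY) c t ht.symm
    exact ⟨y, hy⟩
  obtain ⟨ξ', hξ'⟩ := hrange ξ (hξ.def ▸ subset_closure rfl)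
  have hgenT : (fT ≫ gT) ξ' = genericPoint T := by
    refine i.isEmbedding.injective ?_
    rw [← Scheme.Hom.comp_apply, ← (sqf.paste_vert sqY).w, Scheme.Hom.comp_apply, hξ', hgen]
  by_cases hmem : QF f g F ξ
  · obtain ⟨U, hU, hUe⟩ := qX.isEmbedding.isInducing.isOpen_iff.1 hWopen
    have hξU : ξ ∈ U := by
      rw [← hξ']
      refine hUe.ge ⟨(hbc ξ').2 (hξ'.symm ▸ hmem), ?_⟩
      show (fT ≫ gT) ξ' ∈ W
      rw [hgenT]; exact hWη
    refine ⟨U, hU, ⟨ξ, hξU, hξ.def ▸ subset_closure rfl⟩, Or.inl ?_⟩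
    rintro c ⟨hcU, hcC⟩
    obtain ⟨c', rfl⟩ := hrange c hcC
    exact (hbc c').1 (hUe.le hcU).1
  · obtain ⟨V, hV, hVe⟩ := i.isEmbedding.isInducing.isOpen_iff.1 W.2
    have hwT : ∀ x, i ((fT ≫ gT) x) = (f ≫ g) (qX x) := fun x => by
      rw [← Scheme.Hom.comp_apply, ← (sqf.paste_vert sqY).w, Scheme.Hom.comp_apply]
    have hξV : (f ≫ g) ξ ∈ V := by
      rw [← hξ', ← hwT, hgenT]
      exact hVe.ge hWη
    refine ⟨(f ≫ g) ⁻¹' V, hV.preimage (f ≫ g).continuous, ⟨ξ, hξV, hξ.def ▸ subset_closure rfl⟩, Or.inr ?_⟩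
    rintro c ⟨hcV, hcC⟩ hcE
    obtain ⟨c', rfl⟩ := hrange c hcC
    have hc' : c' ∈ Locus fT gT ((Scheme.Modules.pullback qX).obj F) ∩ (fT ≫ gT) ⁻¹' W :=
      ⟨(hbc c').2 hcE, hVe.le (show i ((fT ≫ gT) c') ∈ V from (hwT c').symm ▸ hcV)⟩
    have hsp : ξ' ⤳ c' := qX.isEmbedding.isInducing.specializes_iff.1
      (hξ'.symm ▸ specializes_iff_mem_closure.2 (hξ.def.symm ▸ hcC))
    have := (hbc ξ').1 (hsp.mem_open hWopen hc').1
    rw [hξ'] at this
    exact hmem this

/-- The locus over an affine base is constructible. -/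
theorem isLocallyConstructible_spec {A : Type u} [CommRing A] (f : X ⟶ Y) (g : Y ⟶ Spec (CommRingCat.of A))
    [QuasiCompact g] [QuasiSeparated g] [LocallyOfFinitePresentation g]
    [QuasiCompact (f ≫ g)] [QuasiSeparated (f ≫ g)] [LocallyOfFinitePresentation (f ≫ g)]
    (F : X.Modules) [Coh.IsQCoh F] (hF : CohB1.IsFP F) : IsLocallyConstructible (Locus f g F) := by
  obtain ⟨A₀, hA₀, X₀, Y₀, f₀, g₀, qX, qY, h1, h2, h3, h4, sqY, sqX⟩ := L02.ConsP.exists_model_mor f g
  haveI := L02.ConsP.isNoetherianRing_of_fg hA₀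
  haveI := h1; haveI := h2; haveI := h3; haveI := h4
  haveI : IsLocallyNoetherian X₀ := LocallyOfFiniteType.isLocallyNoetherian (f₀ ≫ g₀)
  haveI : QuasiSeparated (f₀ ≫ g₀) := QuasiSeparated.of_comp (f₀ ≫ g₀) (terminal.from _)
  haveI : LocallyOfFinitePresentation (f₀ ≫ g₀) := inferInstance
  obtain ⟨A₁, hle, hA₁, X₁, fg₁, q₁, h, F₁, k1, k2, k3, k4, sq₁, sqh, hq, ⟨e⟩⟩ :=
    L02.ConsP.exists_coherent_model_over (f ≫ g) F hF hA₀ (f₀ ≫ g₀) qX (sqX.paste_vert sqY)
  haveI := L02.ConsP.isNoetherianRing_of_fg hA₁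
  haveI := k1; haveI := k3
  haveI : Coh.IsQCoh F₁ := k4.1
  let φ := Spec.map (CommRingCat.ofHom (Subalgebra.inclusion hle).toRingHom)
  let Y₁ := pullback g₀ φ
  let g₁ : Y₁ ⟶ _ := pullback.snd g₀ φ
  let f₁ : X₁ ⟶ Y₁ := pullback.lift (h ≫ f₀) fg₁ (by rw [Category.assoc]; exact sqh.w)
  have hfg₁ : f₁ ≫ g₁ = fg₁ := pullback.lift_snd _ _ _
  haveI : LocallyOfFiniteType g₁ := MorphismProperty.pullback_snd _ _ inferInstance
  haveI : QuasiCompact g₁ := MorphismProperty.pullback_snd _ _ inferInstance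
  haveI : LocallyOfFiniteType (f₁ ≫ g₁) := hfg₁.symm ▸ inferInstance
  haveI : QuasiCompact (f₁ ≫ g₁) := hfg₁.symm ▸ inferInstance
  let ψ := Spec.map (CommRingCat.ofHom (algebraMap (↥A₁) A))
  have hψφ : ψ ≫ φ = Spec.map (CommRingCat.ofHom (algebraMap (↥A₀) A)) := by rw [← Spec.map_comp]; rfl
  let pY : Y ⟶ Y₁ := pullback.lift qY (g ≫ ψ) (by rw [Category.assoc, hψφ]; exact sqY.w)
  have sY : IsPullback pY g g₁ ψ := by
    refine IsPullback.of_right ?_ (pullback.lift_snd _ _ _) (IsPullback.of_hasPullback g₀ φ)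
    rw [pullback.lift_fst, hψφ]
    exact sqY
  have sX : IsPullback q₁ f f₁ pY := by
    refine IsPullback.of_bot (by rw [hfg₁]; exact sq₁) ?_ sY
    refine pullback.hom_ext ?_ ?_
    · rw [Category.assoc, Category.assoc, pullback.lift_fst, pullback.lift_fst, ← Category.assoc, hq, sqX.w]
    · rw [Category.assoc, Category.assoc, pullback.lift_snd, pullback.lift_snd, ← Category.assoc, ← sq₁.w]
  have hE : Locus f g F = q₁ ⁻¹' Locus f₁ g₁ F₁ := by
    ext x
    refine Iff.trans ?_ (QF_baseChange f₁ g₁ F₁ sY sX x)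
    exact (QF_congr f g e x).symm
  rw [hE]
  exact Groth.L28.Fib.isLocallyConstructible_preimage q₁
    (isConstructible_noetherian f₁ g₁ F₁ k4).isLocallyConstructible

/-- The locus is locally constructible. -/
theorem isLocallyConstructible_locus (f : X ⟶ Y) (g : Y ⟶ S) [LocallyOfFinitePresentation g]
    [LocallyOfFinitePresentation (f ≫ g)] (F : X.Modules) [Coh.IsQCoh F] (hF : CohB1.IsFP F) :
    IsLocallyConstructible (Locus f g F) := by
  intro x
  obtain ⟨_, ⟨W, hW, rfl⟩, hxW, -⟩ :=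
    S.isBasis_affineOpens.exists_subset_of_mem_open (Set.mem_univ (g (f x))) isOpen_univ
  obtain ⟨_, ⟨V, hV, rfl⟩, hxV, hVW⟩ :=
    Y.isBasis_affineOpens.exists_subset_of_mem_open (a := f x) (show f x ∈ g ⁻¹ᵁ W from hxW) (g ⁻¹ᵁ W).2
  obtain ⟨_, ⟨U, hU, rfl⟩, hxU, hUV⟩ :=
    X.isBasis_affineOpens.exists_subset_of_mem_open (a := x) (show x ∈ f ⁻¹ᵁ V from hxV) (f ⁻¹ᵁ V).2
  change S.Opens at W
  change Y.Opens at V
  change X.Opens at U
  replace hW : IsAffineOpen W := hW
  replace hV : IsAffineOpen V := hV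
  replace hU : IsAffineOpen U := hU
  haveI : IsAffine W.toScheme := hW
  haveI : IsAffine V.toScheme := hV
  haveI : IsAffine U.toScheme := hU
  let f' := f.resLE V U hUV
  let g' := g.resLE W V hVW ≫ hW.isoSpec.hom
  let F' := F.restrict U.ι
  haveI : Coh.IsQCoh F' := Scheme.Modules.isQuasicoherent_restrictFunctor U.ι F
  have hF' : CohB1.IsFP F' := Groth.L17.Approx.isFP_restrict U.ι F hF
  haveI : LocallyOfFinitePresentation (f' ≫ g') := by
    haveI : LocallyOfFinitePresentation (f' ≫ g.resLE W V hVW) := by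
      rw [Scheme.Hom.resLE_comp_resLE]; infer_instance
    rw [← Category.assoc]; infer_instance
  have key : ∀ u : U.toScheme, QF f' g' F' u ↔ QF f g F (U.ι u) := by
    intro u
    rw [← QF_openImmersion (jX := U.ι) (jY := V.ι) f g F (Scheme.Hom.resLE_comp_ι f hUV).symm u]
    refine (QF_congr f' g' ((Scheme.Modules.restrictFunctorIsoPullback U.ι).app F) u).trans ?_
    have hw : g' ≫ hW.fromSpec = V.ι ≫ g := by
      simp [g', Scheme.Hom.resLE_comp_ι]
    have sq : IsPullback (𝟙 V.toScheme) g' (V.ι ≫ g) hW.fromSpec :=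
      ⟨⟨by rw [Category.id_comp, hw]⟩, ⟨PullbackCone.IsLimit.mk _ (fun s => s.fst) (fun s => Category.comp_id _)
        (fun s => by rw [← cancel_mono hW.fromSpec, Category.assoc, hw, s.condition])
        (fun s m h _ => by rw [← h, Category.comp_id])⟩⟩
    haveI : Coh.IsQCoh ((Scheme.Modules.pullback U.ι).obj F) := Groth.L16.AffineBC.isQCoh_pullback U.ι F
    have h1 := QF_baseChange f' (V.ι ≫ g) ((Scheme.Modules.pullback U.ι).obj F) sq
      (IsPullback.of_horiz_isIso ⟨by simp⟩ : IsPullback (𝟙 U.toScheme) f' f' (𝟙 V.toScheme)) u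
    exact (QF_congr f' g' ((Scheme.Modules.pullbackId _).app ((Scheme.Modules.pullback U.ι).obj F)).symm u).trans h1
  refine ⟨(U : Set X), U.2.mem_nhds hxU, U.2, ?_⟩
  haveI : CompactSpace U.toScheme := isCompact_iff_compactSpace.1 hU.isCompact
  haveI : QuasiSeparatedSpace U.toScheme := (quasiSeparatedSpace_iff_quasiSeparated _).2 inferInstance
  have hc := (isLocallyConstructible_spec f' g' F' hF').isConstructible
  exact (congrArg IsConstructible (Set.ext fun u => key u :
    Locus f' g' F' = (Subtype.val ⁻¹' Locus f g F : Set ↥(U : Set X)))).mp hc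

end Groth.L02.FibFlat
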