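import Groth.Agent.L20.FibreModuleOpen
import Groth.Agent.L17.Strat.FlatPb
import Groth.Agent.L02.ConsP.Fibres

/-!
Flatness along the fibres: pointwise form and invariance.
-/

set_option autoImplicit false
set_option linter.style.haveILetI false
set_option backward.isDefEq.respectTransparency.types false
set_option backward.isDefEq.respectTransparency false

universe u

open CategoryTheory CategoryTheory.Limits AlgebraicGeometry TopologicalSpace
open scoped TensorProduct
open Groth.L20.FibreModule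

namespace Groth.L02.FibFlat

variable {X Y S : Scheme.{u}}

/-- The module modulo the maximal ideal of the base is flat over the middle local ring modulo it. -/
def QF (f : X ⟶ Y) (g : Y ⟶ S) (F : X.Modules) (x : X) : Prop :=
  letI := FlatMod.moduleStalkOver f F x
  Module.Flat (↑(Y.presheaf.stalk (f x)) ⧸ Ideal.map (g.stalkMap (f x)).hom (IsLocalRing.maximalIdeal ↑(S.presheaf.stalk (g (f x)))))
    (↑(F.presheaf.stalk x) ⧸ (Ideal.map (g.stalkMap (f x)).hom (IsLocalRing.maximalIdeal ↑(S.presheaf.stalk (g (f x)))) •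
      (⊤ : Submodule ↑(Y.presheaf.stalk (f x)) ↑(F.presheaf.stalk x))))

/-- Flatness of `N/IN` over `A/I` gives flatness of `B' ⊗ N` over `A'`. -/
theorem flat_tensor_of_quotient {A A' B B' N : Type u} [CommRing A] [CommRing A'] [CommRing B]
    [CommRing B'] [Algebra A A'] [Algebra B B'] [Algebra A B] [Algebra A' B'] [Algebra A B']
    [IsScalarTower A A' B'] [IsScalarTower A B B'] [AddCommGroup N] [Module B N] [Module A N]
    [IsScalarTower A B N]
    (ha : Function.Surjective (algebraMap A A')) (hb : Function.Surjective (algebraMap B B'))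
    (I : Ideal A) (hI : RingHom.ker (algebraMap A A') = I)
    (hJ : RingHom.ker (algebraMap B B') = I.map (algebraMap A B))
    (h : Module.Flat (A ⧸ I) (N ⧸ (I • ⊤ : Submodule A N))) : Module.Flat A' (B' ⊗[B] N) := by
  subst hI
  let ea := RingHom.quotientKerEquivOfSurjective ha
  letI : Algebra A' (A ⧸ RingHom.ker (algebraMap A A')) := ea.symm.toRingHom.toAlgebra
  haveI : Module.Flat A' (A ⧸ RingHom.ker (algebraMap A A')) := RingHom.Flat.of_bijective ea.symm.bijective
  let q := N ⧸ (RingHom.ker (algebraMap A A') • ⊤ : Submodule A N)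
  letI : Module A' q := Module.compHom q ea.symm.toRingHom
  haveI : IsScalarTower A' (A ⧸ RingHom.ker (algebraMap A A')) q :=
    IsScalarTower.of_algebraMap_smul fun _ _ => rfl
  haveI := h
  haveI : Module.Flat A' q := Module.Flat.trans _ (A ⧸ RingHom.ker (algebraMap A A')) _
  let f : N →ₗ[A] B' ⊗[B] N := (TensorProduct.mk B B' N 1).restrictScalars A
  have hf : Function.Surjective f := TensorProduct.mk_surjective B N B' hb
  have hker : LinearMap.ker f = (RingHom.ker (algebraMap A A') • ⊤ : Submodule A N) := by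
    refine le_antisymm ?_ ?_
    · intro n hn
      let eB : B' ≃ₗ[B] B ⧸ RingHom.ker (algebraMap B B') :=
        ((Ideal.quotientKerAlgEquivOfSurjective (f := Algebra.ofId B B') hb).toLinearEquiv).symm
      have h1 : ((1 : B') ⊗ₜ[B] n) = 0 := hn
      have h2 : n ∈ (RingHom.ker (algebraMap B B') • ⊤ : Submodule B N) := by
        have h3 := congrArg (fun z => TensorProduct.quotTensorEquivQuotSMul N (RingHom.ker (algebraMap B B'))
          (TensorProduct.congr eB (LinearEquiv.refl B N) z)) h1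
        simp only [TensorProduct.congr_tmul, LinearEquiv.refl_apply, map_zero] at h3
        have he : eB 1 = Ideal.Quotient.mk _ 1 := by
          change _ = (1 : B ⧸ RingHom.ker (algebraMap B B'))
          exact map_one (Ideal.quotientKerAlgEquivOfSurjective (f := Algebra.ofId B B') hb).symm
        rw [he] at h3
        exact (Submodule.Quotient.mk_eq_zero _).1 (by simpa using h3)
      rw [hJ] at h2
      refine Submodule.smul_induction_on h2 (fun b hb m _ => ?_) (fun x y hx hy => add_mem hx hy)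
      induction hb using Submodule.span_induction generalizing m with
      | mem x hx =>
        obtain ⟨a, ha, rfl⟩ := hx
        rw [algebraMap_smul]
        exact Submodule.smul_mem_smul ha Submodule.mem_top
      | zero => rw [zero_smul]; exact zero_mem _
      | add x y _ _ hx hy => rw [add_smul]; exact add_mem (hx _ Submodule.mem_top) (hy _ Submodule.mem_top)
      | smul c x _ hx => rw [smul_eq_mul, mul_comm, mul_smul]; exact hx _ Submodule.mem_top
    · refine Submodule.smul_le.2 fun a ha n _ => ?_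
      rw [LinearMap.mem_ker, map_smul, ← algebraMap_smul A' a, RingHom.mem_ker.1 ha, zero_smul]
  let e : q ≃ₗ[A] B' ⊗[B] N := Submodule.quotEquivOfEq _ _ hker.symm ≪≫ₗ f.quotKerEquivOfSurjective hf
  refine Module.Flat.of_linearEquiv
    ({ e.symm.toAddEquiv with
        map_smul' := fun a z => ?_ } : (B' ⊗[B] N) ≃ₗ[A'] q)
  obtain ⟨a, rfl⟩ := ha a
  show e.symm (algebraMap A A' a • z) = ea.symm (algebraMap A A' a) • e.symm z
  rw [algebraMap_smul, map_smul, show ea.symm (algebraMap A A' a) = Ideal.Quotient.mk _ a from by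
    rw [RingEquiv.symm_apply_eq]; rfl]
  rfl

/-- Flatness on the fibre is flatness of the quotients. -/
theorem fibre_iff (f : X ⟶ Y) (g : Y ⟶ S) (F : X.Modules) (s : S) (z : (f ≫ g).fiber s) {x : X}
    (hx : ((f ≫ g).fiberι s) z = x) :
    FlatMod.IsFlatOverAt (MoreMor.fiberMap f g s) ((Scheme.Modules.pullback ((f ≫ g).fiberι s)).obj F) z ↔
      QF f g F x := by
  refine ⟨fun h => flat_quotient_of_fibre f g F s z h hx, fun h => ?_⟩
  subst hx
  let ι := (f ≫ g).fiberι s
  let fm := MoreMor.fiberMap f g s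
  have hcomp : fm ≫ g.fiberι s = ι ≫ f := pullback.lift_fst _ _ _
  have e : (g.fiberι s) (fm z) = f (ι z) := congrArg (fun k : (f ≫ g).fiber s ⟶ Y => k z) hcomp
  have h1 := Scheme.Hom.stalkMap_congr_hom _ _ hcomp z
  rw [Scheme.Hom.stalkMap_comp, Scheme.Hom.stalkMap_comp] at h1
  have h2 : ((Y.presheaf.stalkCongr (.of_eq e)).inv ≫ (g.fiberι s).stalkMap (fm z)) ≫ fm.stalkMap z =
      f.stalkMap (ι z) ≫ ι.stalkMap z := by
    rw [Category.assoc]
    erw [h1]
    exact Iso.inv_hom_id_assoc _ _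
  letI := FlatMod.moduleStalkOver f F (ι z)
  letI : Algebra (Y.presheaf.stalk (f (ι z))) (X.presheaf.stalk (ι z)) := (f.stalkMap (ι z)).hom.toAlgebra
  letI : Algebra (X.presheaf.stalk (ι z)) (((f ≫ g).fiber s).presheaf.stalk z) := (ι.stalkMap z).hom.toAlgebra
  letI : Algebra ((g.fiber s).presheaf.stalk (fm z)) (((f ≫ g).fiber s).presheaf.stalk z) :=
    (fm.stalkMap z).hom.toAlgebra
  letI : Algebra (Y.presheaf.stalk (f (ι z))) ((g.fiber s).presheaf.stalk (fm z)) :=
    ((Y.presheaf.stalkCongr (.of_eq e)).inv ≫ (g.fiberι s).stalkMap (fm z)).hom.toAlgebra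
  letI : Algebra (Y.presheaf.stalk (f (ι z))) (((f ≫ g).fiber s).presheaf.stalk z) :=
    ((ι.stalkMap z).hom.comp (f.stalkMap (ι z)).hom).toAlgebra
  haveI : IsScalarTower (Y.presheaf.stalk (f (ι z))) (X.presheaf.stalk (ι z))
      (((f ≫ g).fiber s).presheaf.stalk z) := IsScalarTower.of_algebraMap_eq fun _ => rfl
  haveI : IsScalarTower (Y.presheaf.stalk (f (ι z))) ((g.fiber s).presheaf.stalk (fm z))
      (((f ≫ g).fiber s).presheaf.stalk z) :=
    IsScalarTower.of_algebraMap_eq fun a => (congrArg (fun φ => φ.hom a) h2).symm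
  haveI : IsScalarTower (Y.presheaf.stalk (f (ι z))) (X.presheaf.stalk (ι z)) (F.presheaf.stalk (ι z)) :=
    IsScalarTower.of_algebraMap_smul fun _ _ => rfl
  let Fs := (Scheme.Modules.pullback ι).obj F
  letI := FlatMod.moduleStalkOver fm Fs z
  haveI : IsScalarTower ((g.fiber s).presheaf.stalk (fm z)) (((f ≫ g).fiber s).presheaf.stalk z)
      (Fs.presheaf.stalk z) := IsScalarTower.of_algebraMap_smul fun _ _ => rfl
  let el : Fs.presheaf.stalk z ≃ₗ[((f ≫ g).fiber s).presheaf.stalk z]
      ((f ≫ g).fiber s).presheaf.stalk z ⊗[X.presheaf.stalk (ι z)] F.presheaf.stalk (ι z) :=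
    ((Groth.L00.PullStalk.stalkIso ι z).app F).toLinearEquiv
  haveI : Module.Flat ((g.fiber s).presheaf.stalk (fm z))
      (((f ≫ g).fiber s).presheaf.stalk z ⊗[X.presheaf.stalk (ι z)] F.presheaf.stalk (ι z)) := by
    refine flat_tensor_of_quotient (Groth.L20.surjective_stalkCongr_comp g s _ e)
      (Groth.L18.stalkMap_fiberι (f ≫ g) s z).1 _ (Groth.L20.ker_stalkCongr_comp g s _ e) ?_ h
    rw [Ideal.map_map]
    refine (Groth.L18.stalkMap_fiberι (f ≫ g) s z).2.trans ?_
    rw [Scheme.Hom.stalkMap_comp]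
    rfl
  exact Module.Flat.of_linearEquiv (el.restrictScalars ((g.fiber s).presheaf.stalk (fm z)))

theorem QF_iff_asFiber (f : X ⟶ Y) (g : Y ⟶ S) (F : X.Modules) (x : X) :
    QF f g F x ↔ FlatMod.IsFlatOverAt (MoreMor.fiberMap f g ((f ≫ g) x))
      ((Scheme.Modules.pullback ((f ≫ g).fiberι ((f ≫ g) x))).obj F) ((f ≫ g).asFiber x) :=
  (fibre_iff f g F _ _ ((f ≫ g).fiberι_asFiber x)).symm

/-- Flatness over the base does not see an open immersion into the source. -/
theorem isFlatOverAt_comp_iff {X' : Scheme.{u}} (j : X' ⟶ X) [IsOpenImmersion j] (f : X ⟶ S) (M : X.Modules)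
    (x' : X') :
    FlatMod.IsFlatOverAt (j ≫ f) ((Scheme.Modules.pullback j).obj M) x' ↔ FlatMod.IsFlatOverAt f M (j x') := by
  let O := X.presheaf.stalk (j x')
  let O' := X'.presheaf.stalk x'
  let R := S.presheaf.stalk (f (j x'))
  let N := ((Scheme.Modules.pullback j).obj M).presheaf.stalk x'
  letI : Algebra O O' := (Groth.L00.PullStalk.φ j x').toAlgebra
  letI : Module R (M.presheaf.stalk (j x')) := FlatMod.moduleStalkOver f M (j x')
  letI : Module R N := FlatMod.moduleStalkOver (j ≫ f) _ x'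
  let e : N ≃ₗ[O'] O' ⊗[O] M.presheaf.stalk (j x') :=
    ((Groth.L00.PullStalk.stalkIso j x').app M).toLinearEquiv
  let ε : O ≃ₗ[O] O' := LinearEquiv.ofBijective (Algebra.linearMap O O')
    (ConcreteCategory.bijective_of_isIso (j.stalkMap x'))
  let ψ : M.presheaf.stalk (j x') ≃ₗ[O] O' ⊗[O] M.presheaf.stalk (j x') :=
    (TensorProduct.lid O _).symm.trans (ε.rTensor _)
  have key : ∀ r : R, (Groth.L00.PullStalk.φ j x') ((f.stalkMap (j x')).hom r) = ((j ≫ f).stalkMap x').hom r :=
    fun r => by rw [Scheme.Hom.stalkMap_comp]; rfl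
  let l : M.presheaf.stalk (j x') ≃ₗ[R] N :=
    { ψ.toAddEquiv.trans e.symm.toAddEquiv with
      map_smul' := fun r m => by
        show e.symm (ψ ((f.stalkMap (j x')).hom r • m)) = ((j ≫ f).stalkMap x').hom r • e.symm (ψ m)
        rw [map_smul ψ, ← key r, ← map_smul e.symm, ← algebraMap_smul O' ((f.stalkMap (j x')).hom r) (ψ m)]
        rfl }
  constructor
  · intro h
    haveI : Module.Flat R N := h
    exact Module.Flat.of_linearEquiv l
  · intro h
    haveI : Module.Flat R (M.presheaf.stalk (j x')) := h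
    show Module.Flat R N
    exact Module.Flat.of_linearEquiv l.symm

/-- Flatness at a point is unchanged on open subsquares. -/
theorem isFlatOverAt_openImmersion_iff {X' S' : Scheme.{u}} {f : X ⟶ S} {f' : X' ⟶ S'} {j : X' ⟶ X}
    {i : S' ⟶ S} [IsOpenImmersion i] [IsOpenImmersion j] (w : j ≫ f = f' ≫ i) (M : X.Modules)
    [Coh.IsQCoh M] (x' : X') :
    FlatMod.IsFlatOverAt f' ((Scheme.Modules.pullback j).obj M) x' ↔ FlatMod.IsFlatOverAt f M (j x') := by
  refine ⟨Groth.L17.Strat.isFlatOverAt_of_openImmersion w M x', fun h => ?_⟩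
  let k : X' ⟶ pullback f i := pullback.lift j f' w
  have hk : k ≫ pullback.fst f i = j := pullback.lift_fst _ _ _
  have hk2 : k ≫ pullback.snd f i = f' := pullback.lift_snd _ _ _
  haveI : IsOpenImmersion (pullback.fst f i) := MorphismProperty.pullback_fst _ _ inferInstance
  haveI : IsOpenImmersion (k ≫ pullback.fst f i) := by rw [hk]; infer_instance
  haveI : IsOpenImmersion k := IsOpenImmersion.of_comp k (pullback.fst f i)
  have hpt : pullback.fst f i (k x') = j x' := by rw [← Scheme.Hom.comp_apply, hk]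
  have h2 := (isFlatOverAt_comp_iff k (pullback.snd f i) _ x').2
    (Groth.Agent.S1391.result f (pullback.snd f i) (pullback.fst f i) i (IsPullback.of_hasPullback f i) M
      inferInstance (k x') (hpt.symm ▸ h))
  have h3 := isFlatOverAt_congr _ ((Scheme.Modules.pullbackComp k (pullback.fst f i)).app M ≪≫
    (Scheme.Modules.pullbackCongr hk).app M) h2
  rwa [hk2] at h3

/-- Transfer along maps of fibres. -/
theorem QF_iff_of_maps {X' Y' S' : Scheme.{u}} (f : X ⟶ Y) (g : Y ⟶ S) (F : X.Modules) {f' : X' ⟶ Y'}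
    {g' : Y' ⟶ S'} {gX : X' ⟶ X} (s' : S') (s : S) (mX : (f' ≫ g').fiber s' ⟶ (f ≫ g).fiber s)
    (hmX : mX ≫ (f ≫ g).fiberι s = (f' ≫ g').fiberι s' ≫ gX)
    (htr : ∀ z' : (f' ≫ g').fiber s',
      FlatMod.IsFlatOverAt (MoreMor.fiberMap f' g' s') ((Scheme.Modules.pullback mX).obj
        ((Scheme.Modules.pullback ((f ≫ g).fiberι s)).obj F)) z' ↔
      FlatMod.IsFlatOverAt (MoreMor.fiberMap f g s) ((Scheme.Modules.pullback ((f ≫ g).fiberι s)).obj F) (mX z'))
    (x' : X') (hx : (f' ≫ g') x' = s') :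
    QF f' g' ((Scheme.Modules.pullback gX).obj F) x' ↔ QF f g F (gX x') := by
  subst hx
  let z' := (f' ≫ g').asFiber x'
  have hz' : (f' ≫ g').fiberι _ z' = x' := (f' ≫ g').fiberι_asFiber x'
  have hz : (f ≫ g).fiberι s (mX z') = gX x' := by
    rw [← Scheme.Hom.comp_apply, hmX, Scheme.Hom.comp_apply, hz']
  let α := (Scheme.Modules.pullbackComp _ _).app F ≪≫ (Scheme.Modules.pullbackCongr hmX).app F ≪≫
    ((Scheme.Modules.pullbackComp ((f' ≫ g').fiberι ((f' ≫ g') x')) gX).app F).symm
  rw [← fibre_iff f g F s (mX z') hz, ← htr z', QF_iff_asFiber]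
  exact ⟨fun h => isFlatOverAt_congr _ α.symm h, fun h => isFlatOverAt_congr _ α h⟩

/-- Flatness along the fibres commutes with change of the base. -/
theorem QF_baseChange (f : X ⟶ Y) (g : Y ⟶ S) (F : X.Modules) [Coh.IsQCoh F] {X' Y' S' : Scheme.{u}}
    {h : S' ⟶ S} {gY : Y' ⟶ Y} {g' : Y' ⟶ S'} (hY : IsPullback gY g' g h) {gX : X' ⟶ X} {f' : X' ⟶ Y'}
    (hX : IsPullback gX f' f gY) (x' : X') :
    QF f' g' ((Scheme.Modules.pullback gX).obj F) x' ↔ QF f g F (gX x') := by
  have sq := hX.paste_vert hY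
  let s' := (f' ≫ g') x'
  let mX := L02.ConsP.fib sq.w s'
  let mY := L02.ConsP.fib hY.w s'
  have hmX : mX ≫ (f ≫ g).fiberι (h s') = (f' ≫ g').fiberι s' ≫ gX := L02.ConsP.fib_ι _ _
  have hmY : mY ≫ g.fiberι (h s') = g'.fiberι s' ≫ gY := L02.ConsP.fib_ι _ _
  refine QF_iff_of_maps f g F s' (h s') mX hmX (fun z' => ?_) x' rfl
  have HX := L02.ConsP.isPullback_fib sq s'
  have HY := L02.ConsP.isPullback_fib hY s'
  let fm := MoreMor.fiberMap f g (h s')
  let fm' := MoreMor.fiberMap f' g' s'
  have hfm : fm ≫ g.fiberToSpecResidueField (h s') = (f ≫ g).fiberToSpecResidueField (h s') :=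
    pullback.lift_snd _ _ _
  have hfm' : fm' ≫ g'.fiberToSpecResidueField s' = (f' ≫ g').fiberToSpecResidueField s' :=
    pullback.lift_snd _ _ _
  have hfmι : fm ≫ g.fiberι (h s') = (f ≫ g).fiberι (h s') ≫ f := pullback.lift_fst _ _ _
  have hfmι' : fm' ≫ g'.fiberι s' = (f' ≫ g').fiberι s' ≫ f' := pullback.lift_fst _ _ _
  have hw : mX ≫ fm = fm' ≫ mY := by
    apply pullback.hom_ext
    · show (mX ≫ fm) ≫ g.fiberι (h s') = (fm' ≫ mY) ≫ g.fiberι (h s')
      rw [Category.assoc, Category.assoc, hfmι, hmY, reassoc_of% hmX, reassoc_of% hfmι', hX.w]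
    · show (mX ≫ fm) ≫ g.fiberToSpecResidueField (h s') = (fm' ≫ mY) ≫ g.fiberToSpecResidueField (h s')
      rw [Category.assoc, Category.assoc, hfm, HY.w, reassoc_of% hfm', HX.w]
  have sq1 : IsPullback mX fm' fm mY := by
    refine IsPullback.of_bot ?_ hw HY
    rw [hfm, hfm']
    exact HX
  haveI : Flat mY := by
    haveI : Flat (Spec.map (h.residueFieldMap s')) := Flat.SpecMap_iff.mpr (by
      letI := (h.residueFieldMap s').hom.toAlgebra
      haveI : Module.Free (S.residueField (h s')) (S'.residueField s') := Module.Free.of_divisionRing _ _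
      exact RingHom.flat_algebraMap_iff.mpr (Module.Flat.of_free (R := S.residueField (h s'))))
    exact MorphismProperty.of_isPullback HY.flip inferInstance
  haveI := Groth.L16.AffineBC.isQCoh_pullback ((f ≫ g).fiberι (h s')) F
  exact ⟨Groth.Agent.S1392.result fm fm' mX mY sq1 _ inferInstance z' (Flat.stalkMap mY _),
    Groth.Agent.S1391.result fm fm' mX mY sq1 _ inferInstance z'⟩

/-- The map on fibres over the same base. -/
noncomputable abbrev fibMap {Y' : Scheme.{u}} (j : Y' ⟶ Y) {g : Y ⟶ S} {g' : Y' ⟶ S} (w : j ≫ g = g') (s : S) :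
    g'.fiber s ⟶ g.fiber s :=
  pullback.lift (g'.fiberι s ≫ j) (g'.fiberToSpecResidueField s) (by rw [Category.assoc, w]; exact pullback.condition)

theorem isOpenImmersion_fibMap {Y' : Scheme.{u}} (j : Y' ⟶ Y) [IsOpenImmersion j] {g : Y ⟶ S} {g' : Y' ⟶ S}
    (w : j ≫ g = g') (s : S) : IsOpenImmersion (fibMap j w s) := by
  subst w
  have sq : IsPullback (fibMap j rfl s) ((j ≫ g).fiberι s) (g.fiberι s) j := by
    refine IsPullback.of_right ?_ (pullback.lift_fst _ _ _) (IsPullback.of_hasPullback g (S.fromSpecResidueField s)).flip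
    rw [show fibMap j rfl s ≫ pullback.snd g (S.fromSpecResidueField s) = _ from pullback.lift_snd _ _ _]
    exact (IsPullback.of_hasPullback (j ≫ g) (S.fromSpecResidueField s)).flip
  exact MorphismProperty.of_isPullback sq.flip inferInstance

/-- Flatness along the fibres is local on source and middle scheme. -/
theorem QF_openImmersion (f : X ⟶ Y) (g : Y ⟶ S) (F : X.Modules) [Coh.IsQCoh F] {X' Y' : Scheme.{u}}
    {jX : X' ⟶ X} {jY : Y' ⟶ Y} [IsOpenImmersion jX] [IsOpenImmersion jY] {f' : X' ⟶ Y'}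
    (w : jX ≫ f = f' ≫ jY) (x' : X') :
    QF f' (jY ≫ g) ((Scheme.Modules.pullback jX).obj F) x' ↔ QF f g F (jX x') := by
  let s := (f' ≫ jY ≫ g) x'
  have wX : jX ≫ f ≫ g = f' ≫ jY ≫ g := by rw [reassoc_of% w]
  let mX := fibMap jX wX s
  let mY := fibMap jY (g := g) rfl s
  haveI := isOpenImmersion_fibMap jX wX s
  haveI := isOpenImmersion_fibMap jY (g := g) rfl s
  refine QF_iff_of_maps f g F s s mX (pullback.lift_fst _ _ _) (fun z' => ?_) x' rfl
  haveI := Groth.L16.AffineBC.isQCoh_pullback ((f ≫ g).fiberι s) F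
  refine isFlatOverAt_openImmersion_iff (i := mY) ?_ _ z'
  refine pullback.hom_ext ?_ ?_
  · simp only [mX, mY, fibMap, MoreMor.fiberMap, Category.assoc, pullback.lift_fst]
    simp [Scheme.Hom.fiberι, w]
  · simp only [mX, mY, fibMap, MoreMor.fiberMap, Category.assoc, Scheme.Hom.fiberToSpecResidueField, pullback.lift_snd]

end Groth.L02.FibFlat
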